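import Cfsg.Agent.H930.PQ.FactU
import Cfsg.Agent.H835.Sd.Root

/-!
# The Bruhat decomposition and the normaliser of the unitriangular subgroup of `GUJ`, all characteristics
(helper930, S4981)
-/

set_option autoImplicit false

namespace Cfsg.Agent.H930.PQ

open Matrix Cfsg.Agent.H835.Sd

variable {n : ℕ} {K : Type*} [Field K]

theorem sg_sg {τ : K →+* K} (hτ : ∀ x, τ (τ x) = x) (x : GL (Fin n) K) : sg τ (sg τ x) = x := by
  apply Units.ext
  ext i j
  rw [sg_en]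
  change τ (sh τ x.1 _ _) = _
  rw [sh_apply, hτ, Fin.rev_rev, Fin.rev_rev]

/-- the relation `i < j`, `π⁻¹ i < π⁻¹ j` -/
def RP (π : Equiv.Perm (Fin n)) (i j : Fin n) : Prop := i < j ∧ π⁻¹ i < π⁻¹ j

theorem RP_cl {π : Equiv.Perm (Fin n)} (hπ : ∀ i : Fin n, π i.rev = (π i).rev) : Cl (RP π) := by
  have hi : ∀ i : Fin n, π⁻¹ i.rev = (π⁻¹ i).rev := by
    intro i
    apply π.injective
    rw [hπ]
    simp
  refine ⟨fun i j h => h.1, fun i j k h h' => ⟨h.1.trans h'.1, h.2.trans h'.2⟩, fun i j h => ⟨Fin.rev_lt_rev.2 h.1, ?_⟩⟩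
  rw [hi, hi]
  exact Fin.rev_lt_rev.2 h.2

/-- the intersection of `Uni` with a conjugate by a monomial matrix -/
theorem mem_RP_iff {π : Equiv.Perm (Fin n)} {m : GL (Fin n) K} (hm : IsMon π m) (x : GL (Fin n) K) :
    InR (RP π) x ↔ x ∈ Uni n K ∧ m⁻¹ * x * m ∈ Uni n K := by
  have hc : ∀ i j, (m⁻¹ * x * m).1 (π⁻¹ i) (π⁻¹ j) = m⁻¹.1 (π⁻¹ i) i * x.1 i j * (m⁻¹.1 (π⁻¹ j) j)⁻¹ := by
    intro i j
    have := hm.inv.conj_en x i j
    rwa [inv_inv] at this
  constructor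
  · intro hx
    refine ⟨fun i j hij => ?_, fun i j hij => ?_⟩
    · by_cases h : i = j
      · subst h; rw [if_pos rfl]; exact hx.1 _
      · rw [if_neg h]
        by_contra h0
        exact absurd (hx.2 _ _ h h0).1 (not_lt.2 hij)
    · obtain ⟨i, rfl⟩ := (π⁻¹ : Equiv.Perm (Fin n)).surjective i
      obtain ⟨j, rfl⟩ := (π⁻¹ : Equiv.Perm (Fin n)).surjective j
      rw [hc]
      by_cases h : i = j
      · subst h
        rw [if_pos rfl, hx.1, mul_one, mul_inv_cancel₀ (hm.inv.ne_zero _)]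
      · rw [if_neg (fun e => h ((π⁻¹ : Equiv.Perm (Fin n)).injective e))]
        have h0 : x.1 i j = 0 := by
          by_contra h0
          exact absurd (hx.2 _ _ h h0).2 (not_lt.2 hij)
        rw [h0, mul_zero, zero_mul]
  · rintro ⟨h1, h2⟩
    refine ⟨fun i => uni_en_self h1 i, fun i j hij h0 => ⟨?_, ?_⟩⟩
    · by_contra h
      exact h0 (by rw [h1 i j (not_lt.1 h), if_neg hij])
    · by_contra h
      have h3 := h2 _ _ (not_lt.1 h)
      rw [hc, if_neg (fun e => hij ((π⁻¹ : Equiv.Perm (Fin n)).injective e))] at h3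
      rcases mul_eq_zero.1 h3 with h4 | h4
      · rcases mul_eq_zero.1 h4 with h5 | h5
        · exact hm.inv.ne_zero i h5
        · exact h0 h5
      · exact hm.inv.ne_zero j (inv_eq_zero.1 h4)

/-- **the Bruhat decomposition inside `GUJ`**, all characteristics -/
theorem bruhat [Finite K] {τ : K →+* K} (hτ : ∀ x, τ (τ x) = x) (htr : ∀ a, τ a = a → ∃ b, b + τ b = a)
    {g : GL (Fin n) K} (hg : g ∈ GUJ n τ) :
    ∃ u ∈ Uni n K, u ∈ GUJ n τ ∧ ∃ m ∈ Mon n K, m ∈ GUJ n τ ∧ ∃ v ∈ Uni n K, v ∈ GUJ n τ ∧ g = u * m * v := by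
  obtain ⟨u, hu, m, ⟨π, hm⟩, v, hv, e⟩ := bruhatGL g
  have e1 : g = sg τ u * sg τ m * sg τ v := by
    rw [← map_mul, ← map_mul, ← e, mem_GUJ_iff_sg.1 hg]
  have hmm : sg τ m = m := by
    have e2 : sg τ m = ((sg τ u)⁻¹ * u) * m * (v * (sg τ v)⁻¹) := by
      calc sg τ m = (sg τ u)⁻¹ * (sg τ u * sg τ m * sg τ v) * (sg τ v)⁻¹ := by group
        _ = (sg τ u)⁻¹ * (u * m * v) * (sg τ v)⁻¹ := by rw [← e1, ← e]
        _ = _ := by group
    exact (uniqGL (sg_isMon hm) hm ((Uni n K).mul_mem ((Uni n K).inv_mem (sg_mem_Uni hu)) hu)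
      ((Uni n K).mul_mem hv ((Uni n K).inv_mem (sg_mem_Uni hv))) e2).2
  have h2 : m ∈ GUJ n τ := mem_GUJ_iff_sg.2 hmm
  have hR : Cl (RP π) := RP_cl fun i => GUJ_perm hm h2 i
  -- `c = u⁻¹ σ(u)` lies in `Uni ∩ m Uni m⁻¹`
  set c := u⁻¹ * sg τ u with hc
  have hcU : c ∈ Uni n K := (Uni n K).mul_mem ((Uni n K).inv_mem hu) (sg_mem_Uni hu)
  have hcm : m⁻¹ * c * m ∈ Uni n K := by
    have e3 : m⁻¹ * c * m = v * (sg τ v)⁻¹ := by
      have e4 : u * m * v = sg τ u * m * sg τ v := by rw [← e, e1, hmm]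
      calc m⁻¹ * c * m = m⁻¹ * u⁻¹ * (sg τ u * m * sg τ v) * (sg τ v)⁻¹ := by rw [hc]; group
        _ = m⁻¹ * u⁻¹ * (u * m * v) * (sg τ v)⁻¹ := by rw [e4]
        _ = _ := by group
    rw [e3]
    exact (Uni n K).mul_mem hv ((Uni n K).inv_mem (sg_mem_Uni hv))
  have hσc : sg τ c = c⁻¹ := by
    rw [hc, map_mul, sg_sg hτ, map_inv]; group
  obtain ⟨d, hd, hd'⟩ := exists_fact hR hτ htr ((mem_RP_iff hm c).2 ⟨hcU, hcm⟩) hσc
  have hdU := ((mem_RP_iff hm d).1 hd).1
  have hdm := ((mem_RP_iff hm d).1 hd).2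
  have h1 : u * d ∈ GUJ n τ := by
    rw [mem_GUJ_iff_sg, map_mul]
    calc sg τ u * sg τ d = u * c * sg τ d := by rw [hc]; group
      _ = u * (d * (sg τ d)⁻¹) * sg τ d := by rw [← hd']
      _ = _ := by group
  refine ⟨u * d, (Uni n K).mul_mem hu hdU, h1, m, ⟨π, hm⟩, h2, m⁻¹ * (u * d)⁻¹ * g, ?_, ?_, by group⟩
  · have e6 : m⁻¹ * (u * d)⁻¹ * g = (m⁻¹ * d * m)⁻¹ * v := by rw [e]; group
    rw [e6]
    exact (Uni n K).mul_mem ((Uni n K).inv_mem hdm) hv
  · exact (GUJ n τ).mul_mem ((GUJ n τ).mul_mem ((GUJ n τ).inv_mem h2) ((GUJ n τ).inv_mem h1)) hg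

/-- elements of `Uni ∩ GUJ` with a given non-zero entry next to the diagonal -/
theorem exists_simple [Finite K] {τ : K →+* K} (hτ : ∀ x, τ (τ x) = x) (htr : ∀ a, τ a = a → ∃ b, b + τ b = a)
    (hne : ∃ a : K, τ a ≠ a) {i j : Fin n} (hij : j.val = i.val + 1) :
    ∃ x ∈ Uni n K, x ∈ GUJ n τ ∧ x.1 i j ≠ 0 := by
  obtain ⟨a, ha⟩ := hne
  have ha0 : a ≠ 0 := fun e => ha (by rw [e, map_zero])
  have hX : ∀ k l : Fin n, Xm τ i j a k l ≠ 0 → l.val = k.val + 1 := by
    intro k l h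
    rw [Xm_en] at h
    by_cases h1 : i = k ∧ j = l
    · rw [← h1.1, ← h1.2]; exact hij
    · rw [if_neg h1] at h
      by_cases h2 : j.rev = k ∧ i.rev = l
      · rw [← h2.1, ← h2.2, Fin.val_rev, Fin.val_rev]
        have := i.2; have := j.2
        omega
      · rw [if_neg h2, sub_zero] at h
        exact absurd rfl h
  have hXij : Xm τ i j a i j ≠ 0 := by
    rw [Xm_en, if_pos ⟨rfl, rfl⟩]
    by_cases h : j.rev = i ∧ i.rev = j
    · rw [if_pos h]; exact fun e => ha (sub_eq_zero.1 e).symm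
    · rw [if_neg h, sub_zero]; exact ha0
  -- `v = 1 + X`
  let A : Matrix (Fin n) (Fin n) K := 1 + Xm τ i j a
  have hA : ∀ k l, l ≤ k → A k l = if k = l then 1 else 0 := by
    intro k l hkl
    change (1 : Matrix (Fin n) (Fin n) K) k l + Xm τ i j a k l = _
    have h0 : Xm τ i j a k l = 0 := by
      by_contra h0
      have h1 := hX _ _ h0
      have h2 : l.val ≤ k.val := hkl
      omega
    rw [h0, add_zero, one_apply]
  set v := mkU A hA with hv
  have hvv : v.1 = 1 + Xm τ i j a := rfl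
  have hvU : v ∈ Uni n K := fun k l hkl => hA k l hkl
  have hcl : Cl (fun k l : Fin n => k.val + 2 ≤ l.val) := by
    refine ⟨fun k l h => ?_, fun k l m h h' => ?_, fun k l h => ?_⟩
    · change k.val < l.val
      omega
    · omega
    · rw [Fin.val_rev, Fin.val_rev]
      have := k.2; have := l.2
      omega
  -- `c⁻¹ = (sg v)⁻¹ v = 1 - X²`
  have hci : ((sg τ v)⁻¹ * v).1 = 1 - Xm τ i j a * Xm τ i j a := by
    have h1 : ((sg τ v)⁻¹).1 = 1 - Xm τ i j a := by
      have h2 : ((sg τ v)⁻¹).1 = sh τ v.1 := by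
        rw [← map_inv, sg_val, inv_inv]
      rw [h2, hvv, sh_add, sh_one, sh_Xm hτ, sub_eq_add_neg]
    rw [Units.val_mul, h1, hvv]
    noncomm_ring
  have hcR : InR (fun k l : Fin n => k.val + 2 ≤ l.val) ((sg τ v)⁻¹ * v) := by
    have h1 : ∀ k l, (Xm τ i j a * Xm τ i j a) k l ≠ 0 → k.val + 2 ≤ l.val := by
      intro k l h
      rw [mul_apply] at h
      obtain ⟨m, -, h0⟩ := Finset.exists_ne_zero_of_sum_ne_zero h
      have h1 := hX _ _ (left_ne_zero_of_mul h0)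
      have h2 := hX _ _ (right_ne_zero_of_mul h0)
      omega
    constructor
    · intro k
      rw [hci, Matrix.sub_apply, one_apply_eq]
      have : (Xm τ i j a * Xm τ i j a) k k = 0 := by
        by_contra h0
        have := h1 _ _ h0
        omega
      rw [this, sub_zero]
    · intro k l hkl h
      rw [hci, Matrix.sub_apply, one_apply_ne hkl, zero_sub] at h
      exact h1 _ _ (neg_ne_zero.1 h)
  set c := v⁻¹ * sg τ v with hc
  have hcR' : InR (fun k l : Fin n => k.val + 2 ≤ l.val) c := by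
    have := hcR.inv hcl
    have e : ((sg τ v)⁻¹ * v)⁻¹ = c := by rw [hc]; group
    rwa [e] at this
  have hσc : sg τ c = c⁻¹ := by
    rw [hc, map_mul, sg_sg hτ, map_inv]; group
  obtain ⟨d, hd, hd'⟩ := exists_fact hcl hτ htr hcR' hσc
  refine ⟨v * d, (Uni n K).mul_mem hvU (hd.uni hcl), ?_, ?_⟩
  · rw [mem_GUJ_iff_sg, map_mul]
    calc sg τ v * sg τ d = v * c * sg τ d := by rw [hc]; group
      _ = v * (d * (sg τ d)⁻¹) * sg τ d := by rw [← hd']
      _ = _ := by group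
  · rw [en_mul, Finset.sum_eq_single j]
    · rw [hd.1, mul_one, hvv, Matrix.add_apply, one_apply_ne (fun e => by rw [e] at hij; omega), zero_add]
      exact hXij
    · intro k _ hk
      by_contra h0
      have h1 := left_ne_zero_of_mul h0
      have h2 := hd.2 k j hk (right_ne_zero_of_mul h0)
      have h3 : i ≤ k := by
        by_contra h4
        exact h1 (uni_en_of_lt hvU (not_le.1 h4))
      have h4 : i.val ≤ k.val := h3
      omega
    · simp

/-- a `p`-subgroup `U` of `S` such that all `p`-elements of its normaliser lie in `U` is a Sylow subgroup -/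
theorem not_dvd_index {S : Type*} [Group S] [Finite S] {p : ℕ} [hp : Fact p.Prime] (U : Subgroup S) (hU : IsPGroup p U)
    (h : ∀ x ∈ Subgroup.normalizer (U : Set S), (∃ k, x ^ p ^ k = 1) → x ∈ U) : ¬ p ∣ U.index := by
  intro hd
  obtain ⟨k, hk⟩ := hU.exists_card_eq
  have h1 : p ^ (k + 1) ∣ Nat.card S := by
    rw [← U.card_mul_index, hk, pow_succ]
    exact Nat.mul_dvd_mul_left _ hd
  have h2 : p ∣ Nat.card (Subgroup.normalizer (U : Set S) ⧸ U.subgroupOf (Subgroup.normalizer (U : Set S))) :=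
    Sylow.prime_dvd_card_quotient_normalizer h1 hk
  obtain ⟨y, hy⟩ := exists_prime_orderOf_dvd_card' p h2
  obtain ⟨x, rfl⟩ := QuotientGroup.mk_surjective y
  have h3 : (QuotientGroup.mk (x ^ p) : Subgroup.normalizer (U : Set S) ⧸ U.subgroupOf (Subgroup.normalizer (U : Set S))) = 1 := by
    rw [QuotientGroup.mk_pow, ← hy, pow_orderOf_eq_one]
  rw [QuotientGroup.eq_one_iff, Subgroup.mem_subgroupOf] at h3
  obtain ⟨j, hj⟩ := hU ⟨_, h3⟩
  have h4 : (x : S) ^ p ^ (j + 1) = 1 := by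
    have := congrArg Subtype.val hj
    rw [pow_succ', pow_mul]
    exact this
  have h5 := h x x.2 ⟨_, h4⟩
  have h6 : (QuotientGroup.mk x : Subgroup.normalizer (U : Set S) ⧸ U.subgroupOf (Subgroup.normalizer (U : Set S))) = 1 :=
    (QuotientGroup.eq_one_iff _).2 (Subgroup.mem_subgroupOf.2 h5)
  rw [h6, orderOf_one] at hy
  exact hp.out.one_lt.ne hy

end Cfsg.Agent.H930.PQ
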