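import Cfsg.Agent.H930.PQ.PsuP
import Cfsg.Agent.H930.PQ.FieldU
import Cfsg.Agent.H546.FaPSU

/-!
# `PSU_n(q)` as a quotient of `SUJ`, with the field automorphisms (helper930, S4981)
-/

set_option autoImplicit false

namespace Cfsg.Agent.H930.PQ

open Matrix Cfsg Cfsg.Agent.H835.Sd Cfsg.Agent.LieClassical.GUOrder Cfsg.Agent.LieClassical.HermSiegel
open Cfsg.Agent.ClassicalGeometry.PSUAutCount
open Cfsg.Agent.ClassicalGeometry.UnitAutBasic (pr pr_surjective)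

variable {n q : ℕ} {F : Type*} [Field F] [Fintype F] (hF : Fintype.card F = q ^ 2)

/-- conjugation by `P` -/
theorem isom_iff {P : GL (Fin n) F} (hP : P.1ᵀ * P.1.map (frob hF) = Jm n F) (g : GL (Fin n) F) :
    (∀ u v : Fin n → F, hermForm n F q ((P * g * P⁻¹).1 *ᵥ u) ((P * g * P⁻¹).1 *ᵥ v) = hermForm n F q u v) ↔
      g ∈ GUJ n (frob hF) := by
  rw [mul_map_eq_one_iff hF, mem_GUJ_iff']
  set τ := frob hF
  have hPi : P⁻¹.1 * P.1 = 1 := Units.inv_mul P
  have hPi' : P.1 * P⁻¹.1 = 1 := Units.mul_inv P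
  have hm : ∀ A B : Matrix (Fin n) (Fin n) F, (A * B).map τ = A.map τ * B.map τ := fun A B => Matrix.map_mul
  have h1 : ((P * g * P⁻¹).1)ᵀ * (P * g * P⁻¹).1.map τ =
      (P⁻¹.1)ᵀ * (g.1ᵀ * (P.1ᵀ * P.1.map τ) * g.1.map τ) * (P⁻¹.1).map τ := by
    rw [Units.val_mul, Units.val_mul, transpose_mul, transpose_mul, hm, hm]
    simp only [Matrix.mul_assoc]
  have h3 : (P⁻¹.1)ᵀ * P.1ᵀ = 1 := by rw [← transpose_mul, hPi', transpose_one]
  have h3' : P.1ᵀ * (P⁻¹.1)ᵀ = 1 := by rw [← transpose_mul, hPi, transpose_one]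
  have h4 : P.1.map τ * (P⁻¹.1).map τ = 1 := by
    rw [← hm, hPi']
    exact Matrix.map_one _ (map_zero _) (map_one _)
  have h4' : (P⁻¹.1).map τ * P.1.map τ = 1 := by
    rw [← hm, hPi]
    exact Matrix.map_one _ (map_zero _) (map_one _)
  have h2 : (P⁻¹.1)ᵀ * Jm n F * (P⁻¹.1).map τ = 1 := by
    rw [← hP, ← Matrix.mul_assoc, h3, Matrix.one_mul, h4]
  rw [h1, hP]
  constructor
  · intro h
    have h5 := congrArg (fun X => P.1ᵀ * X * P.1.map τ) h
    simp only [Matrix.mul_one] at h5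
    rw [hP] at h5
    refine Eq.trans ?_ h5
    calc g.1ᵀ * Jm n F * g.1.map τ = (P.1ᵀ * (P⁻¹.1)ᵀ) * (g.1ᵀ * Jm n F * g.1.map τ) * ((P⁻¹.1).map τ * P.1.map τ) := by
          rw [h3', h4', Matrix.one_mul, Matrix.mul_one]
      _ = _ := by simp only [Matrix.mul_assoc]
  · intro h
    rw [h, h2]

/-- the homomorphism `SUJ → SU` -/
def toSU {P : GL (Fin n) F} (hP : P.1ᵀ * P.1.map (frob hF) = Jm n F) : ↥(SUJ n (frob hF)) →* ↥(SU n F q) where
  toFun g := mkSU (P * g.1 * P⁻¹).1 (by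
    have h1 : g.1.1.det = 1 := (mem_SUJ.1 g.2).2
    have h2 : P.1.det * (P⁻¹).1.det = 1 := by rw [← det_mul, Units.mul_inv, det_one]
    rw [Units.val_mul, Units.val_mul, det_mul, det_mul, h1, mul_one, h2])
    ((isom_iff hF hP g.1).2 (mem_SUJ.1 g.2).1)
  map_one' := by
    apply mat_injective
    change (P * 1 * P⁻¹).1 = 1
    rw [mul_one, mul_inv_cancel, Units.val_one]
  map_mul' a b := by
    apply mat_injective
    rw [mat_mul]
    change (P * (a.1 * b.1) * P⁻¹).1 = (P * a.1 * P⁻¹).1 * (P * b.1 * P⁻¹).1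
    rw [← Units.val_mul]
    congr 1
    group

theorem mat_toSU {P : GL (Fin n) F} (hP : P.1ᵀ * P.1.map (frob hF) = Jm n F) (g : ↥(SUJ n (frob hF))) :
    mat (toSU hF hP g) = (P * g.1 * P⁻¹).1 := rfl

theorem toSU_surjective {P : GL (Fin n) F} (hP : P.1ᵀ * P.1.map (frob hF) = Jm n F) :
    Function.Surjective (toSU hF hP) := by
  intro g
  let g' : GL (Fin n) F := Matrix.SpecialLinearGroup.toGL g.1
  have hg' : g'.1 = mat g := rfl
  have h1 : P * (P⁻¹ * g' * P) * P⁻¹ = g' := by group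
  have h2 : P⁻¹ * g' * P ∈ SUJ n (frob hF) := by
    rw [mem_SUJ]
    constructor
    · rw [← isom_iff hF hP, h1]
      exact g.2
    · have h2 : P⁻¹.1.det * P.1.det = 1 := by rw [← det_mul, Units.inv_mul, det_one]
      have h3 : g'.1.det = 1 := g.1.2
      rw [Units.val_mul, Units.val_mul, det_mul, det_mul, h3, mul_one, h2]
  refine ⟨⟨P⁻¹ * g' * P, h2⟩, ?_⟩
  apply mat_injective
  rw [mat_toSU]
  change (P * (P⁻¹ * g' * P) * P⁻¹).1 = _
  rw [h1, hg']

/-- the homomorphism `SUJ → PSU` -/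
def piU {P : GL (Fin n) F} (hP : P.1ᵀ * P.1.map (frob hF) = Jm n F) : ↥(SUJ n (frob hF)) →* PSU n F q :=
  (pr n F q).comp (toSU hF hP)

theorem piU_apply {P : GL (Fin n) F} (hP : P.1ᵀ * P.1.map (frob hF) = Jm n F) (g : ↥(SUJ n (frob hF))) :
    piU hF hP g = pr n F q (toSU hF hP g) := rfl

theorem piU_scK (hn : 3 ≤ n) {P : GL (Fin n) F} (hP : P.1ᵀ * P.1.map (frob hF) = Jm n F) : ScK (piU hF hP) := by
  refine ⟨pr_surjective.comp (toSU_surjective hF hP), fun g hg => ?_⟩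
  have h1 : toSU hF hP g ∈ Subgroup.center (SU n F q) := (QuotientGroup.eq_one_iff _).1 hg
  obtain ⟨c, -, hc⟩ := ClassicalGeometry.UnitAutBasic.exists_scalar_of_mem_center hF hn h1
  refine ⟨c, ?_⟩
  have h2 : mat (toSU hF hP g) = c • 1 := by
    ext i j
    have h3 := congrFun (hc (Pi.single j 1)) i
    rw [act_def, Matrix.mulVec_single_one] at h3
    rw [Matrix.smul_apply, Matrix.one_apply]
    rw [Pi.smul_apply, Pi.single_apply] at h3
    exact h3
  rw [mat_toSU] at h2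
  have h3 : g.1.1 = c • 1 := by
    have h4 : g.1 = P⁻¹ * (P * g.1 * P⁻¹) * P := by group
    rw [h4, Units.val_mul, Units.val_mul, h2, Matrix.mul_smul, Matrix.mul_one, Matrix.smul_mul, Units.inv_mul]
  intro i j
  rw [h3, Matrix.smul_apply, Matrix.one_apply, smul_ite, smul_eq_mul, mul_one, smul_zero]

/-- the field automorphisms commute with the involution -/
theorem frob_comm (σ : F ≃+* F) (x : F) : σ (frob hF x) = frob hF (σ x) := by
  rw [frob_apply, frob_apply, map_pow]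

/-- the cocycle `P σ(P)⁻¹` -/
noncomputable def cocy {P : GL (Fin n) F} (hP : P.1ᵀ * P.1.map (frob hF) = Jm n F) (σ : F ≃+* F) : Cfsg.GU n F q :=
  ⟨P * (fm σ P)⁻¹, by
    have hJ : (Jm n F).map (σ : F →+* F) = Jm n F := by
      ext i j
      rw [Matrix.map_apply]
      change σ (if i = j.rev then 1 else 0) = if i = j.rev then 1 else 0
      split_ifs
      · exact map_one _
      · exact map_zero _
    have hσP : ((fm σ P).1)ᵀ * ((fm σ P).1).map (frob hF) = Jm n F := by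
      have h1 : ((fm σ P).1)ᵀ * ((fm σ P).1).map (frob hF) = (P.1ᵀ * P.1.map (frob hF)).map (σ : F →+* F) := by
        ext i j
        rw [Matrix.map_apply, mul_apply, mul_apply, map_sum]
        refine Finset.sum_congr rfl fun k _ => ?_
        rw [map_mul]
        change σ (P.1 k i) * frob hF (σ (P.1 k j)) = σ (P.1 k i) * σ (frob hF (P.1 k j))
        rw [frob_comm]
      rw [h1, hP, hJ]
    change ∀ u v : Fin n → F, hermForm n F q ((P * (fm σ P)⁻¹).1 *ᵥ u) ((P * (fm σ P)⁻¹).1 *ᵥ v) = hermForm n F q u v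
    have h1 := isom_iff hF (P := fm σ P) hσP
    intro u v
    have key : ∀ (A : GL (Fin n) F) (hA : A.1ᵀ * A.1.map (frob hF) = Jm n F) (x y : Fin n → F),
        hermForm n F q (A.1 *ᵥ x) (A.1 *ᵥ y) = x ⬝ᵥ (Jm n F *ᵥ (fun i => frob hF (y i))) := by
      intro A hA x y
      have h2 : (fun i => frob hF ((A.1 *ᵥ y) i)) = A.1.map (frob hF) *ᵥ (fun i => frob hF (y i)) := by
        ext i
        simp only [Matrix.mulVec, dotProduct, map_sum, map_mul, Matrix.map_apply]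
      have h3 : hermForm n F q (A.1 *ᵥ x) (A.1 *ᵥ y) = (A.1 *ᵥ x) ⬝ᵥ (fun i => frob hF ((A.1 *ᵥ y) i)) := rfl
      rw [h3, h2, ← hA, ← Matrix.mulVec_mulVec]
      conv_rhs => rw [Matrix.dotProduct_mulVec, Matrix.vecMul_transpose]
    have h4 : ∀ w : Fin n → F, (P * (fm σ P)⁻¹).1 *ᵥ w = P.1 *ᵥ ((fm σ P)⁻¹.1 *ᵥ w) := by
      intro w
      rw [Matrix.mulVec_mulVec]; rfl
    have h5 : ∀ w : Fin n → F, (fm σ P).1 *ᵥ ((fm σ P)⁻¹.1 *ᵥ w) = w := by
      intro w
      rw [Matrix.mulVec_mulVec, Units.mul_inv, Matrix.one_mulVec]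
    rw [h4, h4, key P hP, ← key (fm σ P) hσP, h5, h5]⟩

theorem gm_cocy {P : GL (Fin n) F} (hP : P.1ᵀ * P.1.map (frob hF) = Jm n F) (σ : F ≃+* F) :
    gm (cocy hF hP σ) = (P * (fm σ P)⁻¹).1 := rfl

theorem gm_cocy_inv {P : GL (Fin n) F} (hP : P.1ᵀ * P.1.map (frob hF) = Jm n F) (σ : F ≃+* F) :
    gm (cocy hF hP σ)⁻¹ = (fm σ P * P⁻¹).1 := by
  have h1 : ((cocy hF hP σ)⁻¹ : Cfsg.GU n F q).1 = fm σ P * P⁻¹ := by
    change (P * (fm σ P)⁻¹)⁻¹ = _
    rw [_root_.mul_inv_rev, inv_inv]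
  rw [gm_def, h1]

/-- the field automorphism on `PSU`, compatible with the antidiagonal model -/
theorem toAut_piU {P : GL (Fin n) F} (hP : P.1ᵀ * P.1.map (frob hF) = Jm n F) (σ : F ≃+* F)
    (g : ↥(SUJ n (frob hF))) :
    toAut (cocy hF hP σ) σ (piU hF hP g) = piU hF hP (fmS (frob_comm hF) σ g) := by
  rw [piU_apply, toAut_pr, piU_apply]
  congr 1
  apply mat_injective
  have h1 : mat (semiConj (cocy hF hP σ) σ (toSU hF hP g)) =
      gm (cocy hF hP σ) * (mat (toSU hF hP g)).map σ * gm (cocy hF hP σ)⁻¹ := rfl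
  have h2 : (mat (toSU hF hP g)).map σ = (fm σ (P * g.1 * P⁻¹)).1 := rfl
  rw [h1, h2, gm_cocy, gm_cocy_inv, ← Units.val_mul, ← Units.val_mul, mat_toSU, fmS_coe, map_mul, map_mul, map_inv]
  congr 1
  group

/-- the action of the field automorphisms -/
noncomputable def PsiU {P : GL (Fin n) F} (hP : P.1ᵀ * P.1.map (frob hF) = Jm n F) : (F ≃+* F) →* MulAut (PSU n F q) where
  toFun σ := toAut (cocy hF hP σ) σ
  map_one' := by
    ext x
    obtain ⟨g, rfl⟩ := (pr_surjective.comp (toSU_surjective hF hP)) x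
    exact (toAut_piU hF hP 1 g).trans (congrArg _ (Subtype.ext (Units.ext (by ext i j; rfl))))
  map_mul' σ ρ := by
    ext x
    obtain ⟨g, rfl⟩ := (pr_surjective.comp (toSU_surjective hF hP)) x
    refine (toAut_piU hF hP (σ * ρ) g).trans ?_
    rw [MulAut.mul_apply]
    refine Eq.trans ?_ (congrArg (toAut (cocy hF hP σ) σ) (toAut_piU hF hP ρ g).symm)
    rw [toAut_piU]
    rfl

theorem PsiU_piU {P : GL (Fin n) F} (hP : P.1ᵀ * P.1.map (frob hF) = Jm n F) (σ : F ≃+* F)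
    (g : ↥(SUJ n (frob hF))) : PsiU hF hP σ (piU hF hP g) = piU hF hP (fmS (frob_comm hF) σ g) :=
  toAut_piU hF hP σ g

/-- the field automorphisms are not inner -/
theorem PsiU_inn (hn : 3 ≤ n) {P : GL (Fin n) F} (hP : P.1ᵀ * P.1.map (frob hF) = Jm n F) (σ : F ≃+* F)
    (h : PsiU hF hP σ ∈ Cfsg.Inn (PSU n F q)) : σ = 1 := by
  obtain ⟨x, hx⟩ := h
  obtain ⟨g, rfl⟩ := pr_surjective x
  rw [H546.FaPSU.conj_pr] at hx
  exact (eq_of_toAut_eq hF hn hx).1

end Cfsg.Agent.H930.PQ
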